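import Groth.Agent.StkGerb.QuotFin.TrivTorsor
import Groth.Agent.Agf.Lang

/-!
Torsors under a connected smooth affine group over a finite field have rational points.
-/

set_option autoImplicit false
set_option backward.isDefEq.respectTransparency false
set_option backward.isDefEq.respectTransparency.types false

universe u

open CategoryTheory Limits MonoidalCategory CartesianMonoidalCategory MonObj GrpObj AlgebraicGeometry AlgSt
open Groth.AlgGrp2 Groth.Agf

noncomputable section

namespace Groth.StkGerb.QuotFin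

variable {k : Type u} [Field k]

/-- A scheme of finite type over a field has a point with values in any algebraically closed extension. -/
theorem exists_algClosed_point (X : Over (Spec (CommRingCat.of k))) [LocallyOfFiniteType X.hom] [Nonempty X.left]
    (K : Type u) [Field K] [IsAlgClosed K] [Algebra k K] : Nonempty (VecGrp.pt k K ⟶ X) := by
  obtain ⟨x⟩ := ‹Nonempty X.left›
  obtain ⟨_, ⟨W : X.left.Opens, hW, rfl⟩, hx, -⟩ :=
    X.left.isBasis_affineOpens.exists_subset_of_mem_open (Set.mem_univ x) isOpen_univ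
  let Y : Over (Spec (CommRingCat.of k)) := Over.mk (W.ι ≫ X.hom)
  have : IsAffine Y.left := hW
  have : Nonempty Y.left := ⟨⟨x, hx⟩⟩
  have : LocallyOfFiniteType Y.hom := inferInstanceAs (LocallyOfFiniteType (W.ι ≫ X.hom))
  have : Algebra.FiniteType k (Fn Y) := fn_finiteType Y
  have : Nontrivial (Fn Y) := @Scheme.component_nontrivial Y.left ⊤ ⟨⟨⟨x, hx⟩, trivial⟩⟩
  obtain ⟨m, hm⟩ := Ideal.exists_maximal (Fn Y)
  let : Field (Fn Y ⧸ m) := Ideal.Quotient.field m
  have : Algebra.FiniteType k (Fn Y ⧸ m) := .of_surjective (Ideal.Quotient.mkₐ k m) Ideal.Quotient.mk_surjective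
  have : Module.Finite k (Fn Y ⧸ m) := finite_of_finite_type_of_isJacobsonRing k _
  let ψ : Fn Y →ₐ[k] K := (IsAlgClosed.lift : Fn Y ⧸ m →ₐ[k] K).comp (Ideal.Quotient.mkₐ k m)
  exact ⟨ptOf Y ψ ≫ Over.homMk W.ι⟩

variable [Finite k]

theorem exists_pow_card_fixed {K : Type u} [Field K] [Algebra k K] {z : K} (h : z ^ Nat.card k = z) :
    ∃ c : k, algebraMap k K c = z := by
  have := Fintype.ofFinite k
  rw [Nat.card_eq_fintype_card] at h
  have hq : 1 < Fintype.card k := Fintype.one_lt_card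
  let p : Polynomial k := Polynomial.X ^ Fintype.card k - Polynomial.X
  have hp : p ≠ 0 := FiniteField.X_pow_card_sub_X_ne_zero k hq
  have hs : p.Splits := Polynomial.splits_iff_card_roots.2 (by
    rw [FiniteField.roots_X_pow_card_sub_X, FiniteField.X_pow_card_sub_X_natDegree_eq k hq]
    rfl)
  have hz : z ∈ (p.map (algebraMap k K)).roots := by
    rw [Polynomial.mem_roots (Polynomial.map_ne_zero hp)]
    simp [p, h]
  rw [hs.roots_map] at hz
  obtain ⟨c, -, rfl⟩ := Multiset.mem_map.1 hz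
  exact ⟨c, rfl⟩

/-- A point fixed by Frobenius comes from a rational point. -/
theorem exists_rational_of_frob_fixed {P : Over (Spec (CommRingCat.of k))} {K : Type u} [Field K] [Algebra k K]
    (q : VecGrp.pt k K ⟶ P) (hq : VecGrp.ptMap (frob k K) ≫ q = q) :
    ∃ s : Spec (CommRingCat.of k) ⟶ P.left, s ≫ P.hom = 𝟙 _ := by
  let q₀ : Spec (CommRingCat.of K) ⟶ P.left := q.left
  let x := q₀ (IsLocalRing.closedPoint K)
  let ψ : P.left.residueField x ⟶ CommRingCat.of K := P.left.descResidueField (Scheme.stalkClosedPointTo q₀)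
  have hψ : Spec.map ψ ≫ P.left.fromSpecResidueField x = q₀ :=
    Scheme.descResidueField_stalkClosedPointTo_fromSpecResidueField K P.left q₀
  let F : CommRingCat.of K ⟶ CommRingCat.of K := CommRingCat.ofHom (frob k K).toRingHom
  have hfix : ψ ≫ F = ψ := by
    apply Spec.map_injective
    rw [← cancel_mono (P.left.fromSpecResidueField x), Spec.map_comp, Category.assoc, hψ]
    exact congrArg CommaMorphism.left hq
  obtain ⟨j, hj⟩ : ∃ j : CommRingCat.of k ⟶ P.left.residueField x,
      Spec.map j = P.left.fromSpecResidueField x ≫ P.hom := ⟨_, Spec.map_preimage _⟩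
  have hjψ : j ≫ ψ = CommRingCat.ofHom (algebraMap k K) := by
    apply Spec.map_injective
    rw [Spec.map_comp, hj, reassoc_of% hψ]
    exact Over.w q
  have hbij : Function.Bijective j := by
    refine ⟨j.hom.injective, fun z => ?_⟩
    have hz : ψ z ^ Nat.card k = ψ z := by
      rw [← frob_apply (k := k)]
      exact congrArg (fun φ : P.left.residueField x ⟶ CommRingCat.of K => φ z) hfix
    obtain ⟨c, hc⟩ := exists_pow_card_fixed hz
    refine ⟨c, ψ.hom.injective ?_⟩
    rw [← hc]
    exact congrArg (fun φ : CommRingCat.of k ⟶ CommRingCat.of K => φ c) hjψ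
  have : IsIso j := (ConcreteCategory.isIso_iff_bijective j).2 hbij
  refine ⟨Spec.map (inv j) ≫ P.left.fromSpecResidueField x, ?_⟩
  rw [Category.assoc, ← hj, ← Spec.map_comp, IsIso.hom_inv_id, Spec.map_id]

theorem exists_section {G X : Over (Spec (CommRingCat.of k))} [GrpObj G] {aX : AlgGrp.Action G X}
    [Smooth G.hom] [IsAffineHom G.hom] [ConnectedSpace G.left]
    (ξ : (QuotSt Scheme.fppfPrecoverage G aX).p.Fiber (Over.mk (𝟙 (Spec (CommRingCat.of k))))) :
    ∃ s : Over.mk (𝟙 (Spec (CommRingCat.of k))) ⟶ ξ.1.P,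
      s ≫ ξ.1.π = eqToHom (ξ.2 : ξ.1.base = _).symm := by
  obtain ⟨A, hA⟩ := ξ
  change A.base = _ at hA
  have : IsAffine G.left := isAffine_of_isAffineHom G.hom
  have hT : IsTerminal (Over.mk (𝟙 (Spec (CommRingCat.of k)))) := Over.mkIdTerminal
  let K := AlgebraicClosure k
  have hbase : ∀ {Z : Over (Spec (CommRingCat.of k))} (a b : Z ⟶ A.base), a = b := fun a b => by
    rw [← cancel_mono (eqToHom hA)]
    exact hT.hom_ext _ _
  -- a geometric point
  obtain ⟨R, hR, hR'⟩ := A.loc
  have hi : IsIso A.base.hom := by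
    have e := Over.w (eqToHom hA)
    change (eqToHom hA).left ≫ 𝟙 _ = A.base.hom at e
    rw [← e]
    infer_instance
  obtain ⟨y⟩ : Nonempty A.base.left :=
    ⟨(inv A.base.hom) (IsLocalRing.closedPoint k)⟩
  obtain ⟨S', f, hf, t, -⟩ : ∃ (S' : Scheme.{u}) (f : S' ⟶ A.base.left), R f ∧ ∃ t : S', f t = y := by
    obtain ⟨I₀, Z, g, rfl⟩ := R.exists_eq_ofArrows
    obtain ⟨i, t, ht⟩ := ((Scheme.ofArrows_mem_precoverage_iff _).1 hR).1 y
    exact ⟨Z i, g i, ⟨i⟩, t, ht⟩
  obtain ⟨σ, hσ⟩ := hR' f hf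
  have hfl : LocallyOfFinitePresentation f := (hR.2 hf).2
  let S'' : Over (Spec (CommRingCat.of k)) := Over.mk (f ≫ A.base.hom)
  have : Nonempty S''.left := ⟨t⟩
  have : LocallyOfFiniteType S''.hom := inferInstanceAs (LocallyOfFiniteType (f ≫ A.base.hom))
  obtain ⟨p₀⟩ := exists_algClosed_point S'' K
  let σ' : S'' ⟶ A.P := Over.homMk σ (by
    show σ ≫ A.P.hom = f ≫ A.base.hom
    rw [← Over.w A.π, ← Category.assoc]
    exact congrArg (· ≫ A.base.hom) hσ)
  let p := p₀ ≫ σ'
  -- Frobenius moves it by a point of the group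
  let Fr : VecGrp.pt k K ⟶ VecGrp.pt k K := VecGrp.ptMap (frob k K)
  let d : VecGrp.pt k K ⟶ G ⊗ A.P := A.cart.lift (Fr ≫ p) p (hbase _ _)
  have hd₁ : d ≫ A.act.act = Fr ≫ p := A.cart.lift_fst _ _ _
  have hd₂ : d ≫ snd G A.P = p := A.cart.lift_snd _ _ _
  let a := d ≫ fst G A.P
  have ha : lift a p ≫ A.act.act = Fr ≫ p := by
    rw [← hd₁]
    congr 1
    apply CartesianMonoidalCategory.hom_ext <;> simp [a, hd₂]
  obtain ⟨g, hg⟩ := exists_lang K a⁻¹
  have hag : (frobPt g)⁻¹ * a = g⁻¹ := by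
    rw [← _root_.inv_inv a, ← hg]
    group
  let q := lift g⁻¹ p ≫ A.act.act
  have hq : Fr ≫ q = q := by
    show Fr ≫ lift g⁻¹ p ≫ A.act.act = q
    rw [comp_lift_assoc, GrpObj.comp_inv, show Fr ≫ g = frobPt g from rfl, ← ha, ← lift_mul_act, hag]
  obtain ⟨s, hs⟩ := exists_rational_of_frob_fixed q hq
  exact ⟨Over.homMk s (by simpa using hs), hbase _ _⟩

end Groth.StkGerb.QuotFin
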