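import Groth.Prelude.Def_AlgSt5
import Groth.Agent.AlgGrp2.Basic
import Mathlib

/-!
The fibre of a quotient stack over an object all of whose torsors have sections is the action groupoid.
-/

set_option autoImplicit false
set_option backward.isDefEq.respectTransparency false
set_option backward.isDefEq.respectTransparency.types false

universe u

open CategoryTheory Limits MonoidalCategory CartesianMonoidalCategory MonObj GrpObj AlgebraicGeometry AlgSt
open Groth.AlgGrp2

noncomputable section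

namespace Groth.StkGerb.QuotFin

variable {S : Scheme.{u}} {K : Precoverage Scheme.{u}} [K.HasIsos] {G X : Over S} [GrpObj G]
  {aX : AlgGrp.Action G X} {T : Over S}

/-- The action of points of the group on points of the scheme. -/
@[reducible] def ptsAction (aX : AlgGrp.Action G X) (T : Over S) : MulAction (T ⟶ G) (T ⟶ X) where
  smul g x := lift g x ≫ aX.act
  one_smul x := lift_one_act aX x
  mul_smul g h x := lift_mul_act aX g h x

/-- Isomorphisms of objects of the quotient stack over an equality of bases. -/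
def objIso {A B : QuotObj K G aX} (e : A.base = B.base) (t : A.P ≅ B.P)
    (he : A.act.act ≫ t.hom = (G ◁ t.hom) ≫ B.act.act) (hπ : t.hom ≫ B.π = A.π ≫ eqToHom e)
    (hφ : t.hom ≫ B.φ = A.φ) : A ≅ B where
  hom := { base := eqToHom e, top := t.hom, eqv := he, cart := IsPullback.of_horiz_isIso ⟨hπ⟩, wφ := hφ }
  inv :=
    { base := eqToHom e.symm
      top := t.inv
      eqv := by
        rw [← cancel_mono t.hom, Category.assoc, t.inv_hom_id, Category.comp_id, Category.assoc, he,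
          ← MonoidalCategory.whiskerLeft_comp_assoc, t.inv_hom_id, MonoidalCategory.whiskerLeft_id,
          Category.id_comp]
      cart := IsPullback.of_horiz_isIso ⟨by
        rw [← cancel_epi t.hom, t.hom_inv_id_assoc, ← Category.assoc, hπ]
        simp⟩
      wφ := by rw [← hφ, t.inv_hom_id_assoc] }
  hom_inv_id := QuotObj.hom_ext (by simp) t.hom_inv_id
  inv_hom_id := QuotObj.hom_ext (by simp) t.inv_hom_id

/-- The corresponding isomorphism in a fibre category. -/
def fibIso {A B : (QuotSt K G aX).p.Fiber T} (t : A.1.P ≅ B.1.P)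
    (he : A.1.act.act ≫ t.hom = (G ◁ t.hom) ≫ B.1.act.act)
    (hπ : t.hom ≫ B.1.π = A.1.π ≫ eqToHom (A.2.trans B.2.symm))
    (hφ : t.hom ≫ B.1.φ = A.1.φ) : A ≅ B :=
  let i := objIso (A.2.trans B.2.symm) t he hπ hφ
  { hom := ⟨i.hom, IsHomLift.of_fac' _ _ _ A.2 B.2 (by
      show eqToHom (A.2.trans B.2.symm) = _
      simp)⟩
    inv := ⟨i.inv, IsHomLift.of_fac' _ _ _ B.2 A.2 (by
      show eqToHom (A.2.trans B.2.symm).symm = _
      simp)⟩
    hom_inv_id := Subtype.ext i.hom_inv_id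
    inv_hom_id := Subtype.ext i.inv_hom_id }

@[simp] theorem fibIso_top {A B : (QuotSt K G aX).p.Fiber T} (t : A.1.P ≅ B.1.P)
    (he : A.1.act.act ≫ t.hom = (G ◁ t.hom) ≫ B.1.act.act)
    (hπ : t.hom ≫ B.1.π = A.1.π ≫ eqToHom (A.2.trans B.2.symm))
    (hφ : t.hom ≫ B.1.φ = A.1.φ) : (fibIso t he hπ hφ).hom.1.top = t.hom := rfl

variable (K aX) in
/-- The trivial torsor attached to a point. -/
def trivObj (x : T ⟶ X) : (QuotSt K G aX).p.Fiber T :=
  ⟨(quotMap K G aX).obj ⟨T, ⟨x⟩⟩, rfl⟩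

theorem trivObj_φ (x : T ⟶ X) : (trivObj K aX x).1.φ = lift (fst G T) (snd G T ≫ x) ≫ aX.act := by
  show (G ◁ x) ≫ aX.act = _
  congr 1

variable (G) in
/-- Right multiplication on the trivial torsor. -/
def rmul (g : T ⟶ G) : G ⊗ T ≅ G ⊗ T where
  hom := lift (fst G T * (snd G T ≫ g)) (snd G T)
  inv := lift (fst G T * (snd G T ≫ g⁻¹)) (snd G T)
  hom_inv_id := by
    ext1 <;> simp [comp_mul, comp_inv, _root_.mul_assoc]
  inv_hom_id := by
    ext1 <;> simp [comp_mul, comp_inv, _root_.mul_assoc]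

/-- The morphism of trivial torsors given by a point of the group. -/
def trivIso (x x' : T ⟶ X) (g : T ⟶ G) (h : lift g x' ≫ aX.act = x) : trivObj K aX x ≅ trivObj K aX x' := by
  refine fibIso (rmul G g) ?_ ?_ ?_
  · show (leftMul G T).act ≫ (rmul G g).hom = (G ◁ (rmul G g).hom) ≫ (leftMul G T).act
    ext1 <;> simp [rmul, leftMul, comp_mul, _root_.mul_assoc]
  · show (rmul G g).hom ≫ snd G T = snd G T ≫ _
    simp [rmul]
    exact (Category.comp_id _).symm
  · rw [trivObj_φ, trivObj_φ, ← h]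
    show (rmul G g).hom ≫ _ = _
    rw [← Category.assoc, comp_lift, show snd G T ≫ lift g x' ≫ aX.act =
      lift (snd G T ≫ g) (snd G T ≫ x') ≫ aX.act by rw [← Category.assoc, comp_lift], ← lift_mul_act]
    simp [rmul]

/-- The point of the group of a morphism of trivial torsors. -/
def ptOfHom {x x' : T ⟶ X} (f : trivObj K aX x ⟶ trivObj K aX x') : T ⟶ G :=
  lift (1 : T ⟶ G) (𝟙 T) ≫ f.1.top ≫ fst G T

theorem top_π {x x' : T ⟶ X} (f : trivObj K aX x ⟶ trivObj K aX x') : f.1.top ≫ snd G T = snd G T := by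
  have h : (f.1).base = 𝟙 T := by
    have := f.2
    have h' := IsHomLift.fac' (QuotSt K G aX).p (𝟙 T) f.1
    exact h'.trans (by simp; rfl)
  have := f.1.cart.w
  rw [h] at this
  exact this.trans (Category.comp_id _)

theorem top_eq {x x' : T ⟶ X} (f : trivObj K aX x ⟶ trivObj K aX x') :
    f.1.top = (rmul G (ptOfHom f)).hom := by
  have h := congrArg (lift (fst G T) (lift (1 : G ⊗ T ⟶ G) (snd G T)) ≫ ·) f.1.eqv
  have e₁ : lift (fst G T) (lift (1 : G ⊗ T ⟶ G) (snd G T)) ≫ (leftMul G T).act = 𝟙 _ := by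
    ext1 <;> simp [leftMul, comp_mul]
  have h' : f.1.top = lift (fst G T) (lift (1 : G ⊗ T ⟶ G) (snd G T) ≫ f.1.top) ≫ (leftMul G T).act := by
    rw [← lift_whiskerLeft, Category.assoc]
    refine Eq.trans ?_ h
    show f.1.top = lift (fst G T) (lift (1 : G ⊗ T ⟶ G) (snd G T)) ≫ (leftMul G T).act ≫ f.1.top
    rw [reassoc_of% e₁]
  have e₂ : lift (1 : G ⊗ T ⟶ G) (snd G T) = snd G T ≫ lift (1 : T ⟶ G) (𝟙 T) := by
    ext1 <;> simp
  rw [e₂] at h'
  suffices ∀ m : G ⊗ T ⟶ G ⊗ T, m ≫ snd G T = snd G T →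
      m = lift (fst G T) ((snd G T ≫ lift (1 : T ⟶ G) (𝟙 T)) ≫ m) ≫ (leftMul G T).act →
      m = (rmul G (lift (1 : T ⟶ G) (𝟙 T) ≫ m ≫ fst G T)).hom from this _ (top_π f) h'
  intro m hm hm'
  conv_lhs => rw [hm']
  apply CartesianMonoidalCategory.hom_ext
  · simp [rmul, leftMul, comp_mul]
    rw [e₂, Category.assoc]
  · simp [rmul, leftMul, hm]

theorem ptOfHom_smul {x x' : T ⟶ X} (f : trivObj K aX x ⟶ trivObj K aX x') :
    lift (ptOfHom f) x' ≫ aX.act = x := by
  have h := f.1.wφ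
  rw [trivObj_φ, trivObj_φ] at h
  have h' := congrArg (lift (1 : T ⟶ G) (𝟙 T) ≫ ·) h
  simp only [comp_lift_assoc, lift_fst, lift_snd_assoc, Category.id_comp] at h'
  rw [lift_one_act] at h'
  refine Eq.trans ?_ h'
  congr 1
  apply CartesianMonoidalCategory.hom_ext
  · simp [ptOfHom]
  · simp [reassoc_of% top_π f]

theorem ptOfHom_trivIso (x x' : T ⟶ X) (g : T ⟶ G) (h : lift g x' ≫ aX.act = x) :
    ptOfHom (trivIso (K := K) x x' g h).hom = g := by
  show lift (1 : T ⟶ G) (𝟙 T) ≫ (rmul G g).hom ≫ fst G T = g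
  simp [rmul, comp_mul]

theorem hom_eq_of_ptOfHom {x x' : T ⟶ X} {f f' : trivObj K aX x ⟶ trivObj K aX x'}
    (h : ptOfHom f = ptOfHom f') : f = f' := by
  refine Subtype.ext (QuotObj.hom_ext ?_ (by rw [top_eq f, top_eq f', h]))
  have := f.2
  have := f'.2
  exact (IsHomLift.fac' (QuotSt K G aX).p (𝟙 T) f.1).trans
    (IsHomLift.fac' (QuotSt K G aX).p (𝟙 T) f'.1).symm

variable (K aX) in
/-- Automorphisms of a trivial torsor. -/
def autEquiv (x : T ⟶ X) : Aut (trivObj K aX x) ≃ {g : T ⟶ G // lift g x ≫ aX.act = x} where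
  toFun α := ⟨ptOfHom α.hom, ptOfHom_smul α.hom⟩
  invFun g := trivIso x x g.1 g.2
  left_inv α := Iso.ext (hom_eq_of_ptOfHom (ptOfHom_trivIso x x _ _))
  right_inv g := Subtype.ext (ptOfHom_trivIso x x g.1 g.2)

/-- An object with a section is a trivial torsor. -/
theorem nonempty_iso_trivObj (ξ : (QuotSt K G aX).p.Fiber T) (s : T ⟶ ξ.1.P)
    (hs : s ≫ ξ.1.π = eqToHom (ξ.2 : ξ.1.base = T).symm) :
    Nonempty (trivObj K aX (s ≫ ξ.1.φ) ≅ ξ) := by
  obtain ⟨A, hA⟩ := ξ
  change A.base = T at hA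
  subst hA
  replace hs : s ≫ A.π = 𝟙 A.base := hs.trans (by simp)
  let d : A.P ⟶ G ⊗ A.P := A.cart.lift (𝟙 A.P) (A.π ≫ s) (by simp [hs])
  have hd₁ : d ≫ A.act.act = 𝟙 A.P := A.cart.lift_fst _ _ _
  have hd₂ : d ≫ snd G A.P = A.π ≫ s := A.cart.lift_snd _ _ _
  let t : G ⊗ A.base ⟶ A.P := lift (fst G A.base) (snd G A.base ≫ s) ≫ A.act.act
  have ht : t ≫ A.π = snd G A.base := by
    simp only [t, Category.assoc, A.cart.w, lift_snd_assoc, hs, Category.comp_id]
  have h₁ : t ≫ lift (d ≫ fst G A.P) A.π = 𝟙 _ := by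
    apply CartesianMonoidalCategory.hom_ext
    · have e : t ≫ d = lift (fst G A.base) (snd G A.base ≫ s) := by
        apply A.cart.hom_ext
        · rw [Category.assoc, hd₁, Category.comp_id]
        · rw [Category.assoc, hd₂, reassoc_of% ht, lift_snd]
      simp [reassoc_of% e]
    · simp [ht]
  have h₂ : lift (d ≫ fst G A.P) A.π ≫ t = 𝟙 _ := by
    simp only [t, ← Category.assoc, comp_lift, lift_fst, lift_snd]
    rw [← hd₂, ← comp_lift, lift_fst_snd, Category.comp_id, hd₁]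
  refine ⟨fibIso (A := trivObj K aX (s ≫ A.φ)) (B := ⟨A, rfl⟩) ⟨t, lift (d ≫ fst G A.P) A.π, h₁, h₂⟩ ?_ ?_ ?_⟩
  · show (leftMul G A.base).act ≫ t = (G ◁ t) ≫ A.act.act
    have e : G ◁ t = lift (fst G (G ⊗ A.base)) (snd G (G ⊗ A.base) ≫ t) := by
      apply CartesianMonoidalCategory.hom_ext <;> simp
    rw [e]
    simp only [t, leftMul, ← Category.assoc, comp_lift, lift_fst, lift_snd]
    rw [Category.assoc, ← comp_lift, Category.assoc]
    exact (lift_mul_act A.act _ _ _).trans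
      (by simp only [comp_lift_assoc, Category.assoc])
  · show t ≫ A.π = snd G A.base ≫ _
    simp [ht]
    exact (Category.comp_id _).symm
  · rw [trivObj_φ]
    show t ≫ A.φ = _
    simp only [t, Category.assoc, A.eqv]
    rw [← Category.assoc]
    congr 1
    apply CartesianMonoidalCategory.hom_ext <;> simp

theorem iso_trivObj_iff (x x' : T ⟶ X) :
    Nonempty (trivObj K aX x ≅ trivObj K aX x') ↔ ∃ g : T ⟶ G, lift g x' ≫ aX.act = x :=
  ⟨fun ⟨i⟩ => ⟨_, ptOfHom_smul i.hom⟩, fun ⟨g, h⟩ => ⟨trivIso x x' g h⟩⟩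

end Groth.StkGerb.QuotFin
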