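import Groth.Agent.StkGerb.QuotFin.RationalPoint

/-!
The mass formula for a quotient stack over a finite field.
-/

set_option autoImplicit false
set_option backward.isDefEq.respectTransparency false
set_option backward.isDefEq.respectTransparency.types false

universe u

open CategoryTheory Limits MonoidalCategory CartesianMonoidalCategory MonObj GrpObj AlgebraicGeometry AlgSt
open Groth.AlgGrp2 Groth.Agf

noncomputable section

namespace Groth.StkGerb.QuotFin

/-- The orbit counting formula with stabilizers. -/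
theorem sum_inv_card_stabilizer (H Y : Type*) [Group H] [MulAction H Y] [Finite H] [Finite Y] :
    ∑ᶠ ω : MulAction.orbitRel.Quotient H Y, ((Nat.card (MulAction.stabilizer H ω.out) : ℚ))⁻¹ =
      (Nat.card Y : ℚ) / (Nat.card H : ℚ) := by
  have := Fintype.ofFinite (MulAction.orbitRel.Quotient H Y)
  rw [finsum_eq_sum_of_fintype, Nat.card_congr (MulAction.selfEquivSigmaOrbits H Y), Nat.card_sigma,
    Nat.cast_sum, Finset.sum_div]
  refine Finset.sum_congr rfl fun ω _ => ?_
  have h : Nat.card (MulAction.orbit H ω.out) * Nat.card (MulAction.stabilizer H ω.out) = Nat.card H := by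
    rw [Nat.card_congr (MulAction.orbitEquivQuotientStabilizer H ω.out),
      ← Subgroup.card_eq_card_quotient_mul_card_subgroup]
  have h0 : (Nat.card (MulAction.orbit H ω.out) : ℚ) ≠ 0 := by
    have : Nonempty (MulAction.orbit H ω.out) := ⟨⟨_, MulAction.mem_orbit_self _⟩⟩
    exact_mod_cast Nat.card_pos.ne'
  rw [← h, Nat.cast_mul, ← div_div, div_self h0, one_div]

variable {k : Type u} [Field k] [Finite k]

theorem finite_points_affine (Y : Over (Spec (CommRingCat.of k))) [IsAffine Y.left] [LocallyOfFiniteType Y.hom] :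
    Finite (VecGrp.pt k k ⟶ Y) := by
  have := fn_finiteType (k := k) Y
  obtain ⟨n, f, hf⟩ := Algebra.FiniteType.iff_quotient_mvPolynomial''.1 this
  have : Finite (Fn Y →ₐ[k] k) := Finite.of_injective (fun φ => fun i => φ (f (MvPolynomial.X i))) fun φ φ' h => by
    have e : φ.comp f = φ'.comp f := MvPolynomial.algHom_ext fun i => congrFun h i
    exact AlgHom.ext fun a => by
      obtain ⟨b, rfl⟩ := hf a
      exact DFunLike.congr_fun e b
  exact Finite.of_injective (evalPt (X := Y) (B := k)) fun g h e => pt_ext e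

theorem finite_points (X : Over (Spec (CommRingCat.of k))) [LocallyOfFiniteType X.hom] [QuasiCompact X.hom] :
    Finite (Over.mk (𝟙 (Spec (CommRingCat.of k))) ⟶ X) := by
  have : CompactSpace X.left := QuasiCompact.compactSpace_of_compactSpace X.hom
  obtain ⟨s, hs⟩ := (isCompact_univ (X := X.left)).elim_finite_subcover
    (fun W : {W : X.left.Opens // IsAffineOpen W} => (W.1 : Set X.left)) (fun W => W.1.2) fun x _ => by
      obtain ⟨_, ⟨W, hW, rfl⟩, hx, -⟩ :=
        X.left.isBasis_affineOpens.exists_subset_of_mem_open (Set.mem_univ x) isOpen_univ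
      exact Set.mem_iUnion.2 ⟨⟨W, hW⟩, hx⟩
  have hid : VecGrp.pt k k ≅ Over.mk (𝟙 (Spec (CommRingCat.of k))) :=
    Over.isoMk (Iso.refl _) (by
      show 𝟙 _ ≫ 𝟙 _ = Spec.map (CommRingCat.ofHom (algebraMap k k))
      simp)
  let Y : s → Over (Spec (CommRingCat.of k)) := fun W => Over.mk (W.1.1.ι ≫ X.hom)
  have : ∀ W, Finite (VecGrp.pt k k ⟶ Y W) := fun W => by
    have : IsAffine (Y W).left := W.1.2
    have : LocallyOfFiniteType (Y W).hom := inferInstanceAs (LocallyOfFiniteType (W.1.1.ι ≫ X.hom))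
    exact finite_points_affine (Y W)
  refine Finite.of_surjective (fun p : Σ W : s, VecGrp.pt k k ⟶ Y W =>
    hid.inv ≫ p.2 ≫ (Over.homMk p.1.1.1.ι : Y p.1 ⟶ X)) fun a => ?_
  let a' : VecGrp.pt k k ⟶ X := hid.hom ≫ a
  obtain ⟨W, hWs, hW⟩ := Set.mem_iUnion₂.1 (hs (Set.mem_univ (a'.left (IsLocalRing.closedPoint k))))
  have hr : Set.range a'.left ⊆ Set.range W.1.ι := by
    rintro _ ⟨t, rfl⟩
    have : Subsingleton ↥(VecGrp.pt k k).left := inferInstanceAs (Subsingleton (PrimeSpectrum k))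
    rw [Scheme.Opens.range_ι, Subsingleton.elim t (IsLocalRing.closedPoint k)]
    exact hW
  refine ⟨⟨⟨W, hWs⟩, Over.homMk (IsOpenImmersion.lift W.1.ι a'.left hr) ?_⟩, ?_⟩
  · show IsOpenImmersion.lift W.1.ι a'.left hr ≫ W.1.ι ≫ X.hom = _
    rw [← Category.assoc, IsOpenImmersion.lift_fac]
    exact Over.w a'
  · show hid.inv ≫ _ = a
    rw [Iso.inv_comp_eq]
    exact Over.OverMorphism.ext (IsOpenImmersion.lift_fac _ _ _)

theorem massFormula (X G : Over (Spec (CommRingCat.of k))) [GrpObj G] (aX : AlgGrp.Action G X)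
    [Smooth X.hom] [QuasiCompact X.hom] [Smooth G.hom] [IsAffineHom G.hom] [ConnectedSpace ↥G.left] :
    Finite (Quotient (isIsomorphicSetoid ((QuotSt Scheme.fppfPrecoverage G aX).p.Fiber (Over.mk (𝟙 (Spec (CommRingCat.of k))))))) ∧
      (∀ ξ : ((QuotSt Scheme.fppfPrecoverage G aX).p.Fiber (Over.mk (𝟙 (Spec (CommRingCat.of k))))), Finite (Aut ξ)) ∧
      ∑ᶠ c : Quotient (isIsomorphicSetoid ((QuotSt Scheme.fppfPrecoverage G aX).p.Fiber (Over.mk (𝟙 (Spec (CommRingCat.of k)))))), ((Nat.card (Aut c.out) : ℚ))⁻¹ =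
        (Nat.card (Over.mk (𝟙 (Spec (CommRingCat.of k))) ⟶ X) : ℚ) /
          (Nat.card (Over.mk (𝟙 (Spec (CommRingCat.of k))) ⟶ G) : ℚ) := by
  let T := Over.mk (𝟙 (Spec (CommRingCat.of k)))
  let H := T ⟶ G
  let Y := T ⟶ X
  let _ : MulAction H Y := ptsAction aX T
  have : IsAffine G.left := isAffine_of_isAffineHom G.hom
  have : Finite H := finite_points G
  have : Finite Y := finite_points X
  let E : Y → (QuotSt Scheme.fppfPrecoverage G aX).p.Fiber T := trivObj Scheme.fppfPrecoverage aX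
  have hsurj : ∀ ξ, ∃ x, Nonempty (E x ≅ ξ) := fun ξ => by
    obtain ⟨s, hs⟩ := exists_section ξ
    exact ⟨_, nonempty_iso_trivObj ξ s hs⟩
  have hrel : ∀ x x' : Y, Nonempty (E x ≅ E x') ↔ MulAction.orbitRel H Y x x' := fun x x' =>
    (iso_trivObj_iff x x').trans MulAction.orbitRel_apply.symm
  let ψ : MulAction.orbitRel.Quotient H Y →
      Quotient (isIsomorphicSetoid ((QuotSt Scheme.fppfPrecoverage G aX).p.Fiber T)) :=
    Quotient.map E fun x x' h => (hrel x x').2 h
  have hψ : Function.Bijective ψ := by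
    constructor
    · rintro ⟨x⟩ ⟨x'⟩ h
      exact Quotient.sound ((hrel x x').1 (Quotient.exact h))
    · rintro ⟨ξ⟩
      obtain ⟨x, hx⟩ := hsurj ξ
      exact ⟨⟦x⟧, Quotient.sound hx⟩
  refine ⟨Finite.of_surjective ψ hψ.2, fun ξ => ?_, ?_⟩
  · obtain ⟨x, ⟨i⟩⟩ := hsurj ξ
    exact Finite.of_equiv {g : H // lift g x ≫ aX.act = x} ((autEquiv _ aX x).symm.trans i.conjAut.toEquiv)
  · rw [← finsum_comp_equiv (Equiv.ofBijective ψ hψ), ← sum_inv_card_stabilizer H Y]
    refine finsum_congr fun ω => ?_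
    congr 2
    have e : ψ ⟦ω.out⟧ = ⟦(ψ ω).out⟧ := by rw [Quotient.out_eq, Quotient.out_eq]
    obtain ⟨i⟩ : Nonempty (E ω.out ≅ (ψ ω).out) := Quotient.exact e
    exact Nat.card_congr (i.conjAut.toEquiv.symm.trans (autEquiv _ aX ω.out))

end Groth.StkGerb.QuotFin
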